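import Cfsg.Agent.Cls2.Recog
import Cfsg.Agent.Solv.MinNormal
import Cfsg.Agent.Trans.CentralTransfer

/-!
# Non-solvable groups whose class sizes have at most two prime divisors
-/

set_option autoImplicit false

namespace Cfsg.Lib.Cls2

open Cfsg Subgroup Cfsg.Lib.Solv.Count Cfsg.Lib.Solv.ClassSize
open scoped Pointwise commutatorElement

universe u

variable {G : Type*} [Group G]

theorem exists_mul_mem_cent [Finite G] (h : Hyp G) (N : Subgroup G) [hN : N.Normal]
    [IsSimpleGroup N] (hna : ¬ ∀ a b : N, a * b = b * a) (g : G) :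
    ∃ n ∈ N, n * g ∈ centralizer (N : Set G) := by
  obtain ⟨r, s, D₀⟩ := exists_sim (h.of_normal N) hna
  obtain ⟨u, w, D, hin⟩ := D₀.exists_inner
  have := Fact.mk D.pr
  have := Fact.mk D.ps
  by_contra hcon
  let F : N → Subgroup N := fun n => (centralizer ({(n : G) * g} : Set G)).subgroupOf N
  have hF : ∀ (n x : N), x ∈ F n ↔ (x : G) * (n * g) = n * g * x := fun n x => by
    rw [mem_subgroupOf, mem_cent]
  have h1 : ∀ n : N, ¬ 2 ∣ (F n).index ∨ ¬ w ∣ (F n).index := by
    intro n
    have hd : (F n).index ∣ (centralizer ({(n : G) * g} : Set G)).index :=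
      relIndex_dvd_index_of_normal_right _ N
    have hu : u ∣ (F n).index := by
      by_contra h2
      obtain ⟨U, hU⟩ := exists_sylow_le_of_not_dvd_index h2
      obtain ⟨m, hm⟩ := hin U (MulAut.conjNormal ((n : G) * g)) (fun x hx => Subtype.ext (by
        rw [MulAut.conjNormal_apply, ← (hF n x).1 (hU hx), mul_inv_cancel_right]))
      refine hcon ⟨(m : G)⁻¹ * n, N.mul_mem (N.inv_mem m.2) n.2, fun x hx => ?_⟩
      have h3 := congrArg Subtype.val (hm ⟨x, hx⟩)
      rw [MulAut.conjNormal_apply] at h3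
      simp only [coe_mul, coe_inv] at h3
      calc x * ((m : G)⁻¹ * n * g) = (m : G)⁻¹ * (m * x * (m : G)⁻¹) * (n * g) := by group
        _ = _ := by rw [← h3]; group
    by_contra h2
    rw [not_or, not_not, not_not] at h2
    exact not_three index_ne_zero_of_finite (h _) Nat.prime_two D.pr D.ps D.r2.symm D.s2.symm D.rs
      (h2.1.trans hd) (hu.trans hd) (h2.2.trans hd)
  have h2 : ∀ Q : Subgroup N, cnt (fun n => Q ≤ F n) ≤ Nat.card (centralizer (Q : Set N)) := by
    intro Q
    by_cases h3 : ∃ n₀, Q ≤ F n₀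
    · obtain ⟨n₀, hn₀⟩ := h3
      refine Nat.card_le_card_of_injective
        (fun n : {n // Q ≤ F n} => ⟨n.1 * n₀⁻¹, fun x hx => Subtype.ext ?_⟩) ?_
      · have h4 := (hF _ x).1 (n.2 hx)
        have h5 := (hF _ x).1 (hn₀ hx)
        simp only [coe_mul, coe_inv]
        calc (x : G) * (n.1 * (n₀ : G)⁻¹) = x * (n.1 * g) * (n₀ * g)⁻¹ := by group
          _ = n.1 * g * (n₀ * g)⁻¹ * (n₀ * g * x) * (n₀ * g)⁻¹ := by rw [h4]; group
          _ = _ := by rw [← h5]; group
      · intro a b hab
        have := congrArg Subtype.val hab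
        exact Subtype.ext (by simpa using this)
    · rw [cnt_eq_zero (fun n hn => h3 ⟨n, hn⟩)]
      exact Nat.zero_le _
  let T : Sylow 2 N := default
  let W : Sylow w N := default
  have h3 := (Nat.mul_le_mul_left _ (D.three_le_ff T)).trans (cover F T (fun Q => h2 Q))
  have h4 := (Nat.mul_le_mul_left _ (two_le_ff D.na D.ds W)).trans (cover F W (fun Q => h2 Q))
  have h5 := cnt_add (fun _ : N => True) (fun n => ¬ 2 ∣ (F n).index)
  have h6 : cnt (fun _ : N => True) = Nat.card N := Nat.card_congr (Equiv.subtypeUnivEquiv (by simp))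
  have h7 := cnt_le (P := fun n => True ∧ ¬ 2 ∣ (F n).index) (Q := fun n => ¬ 2 ∣ (F n).index)
    (fun n hn => hn.2)
  have h8 := cnt_le (P := fun n => True ∧ ¬ ¬ 2 ∣ (F n).index) (Q := fun n => ¬ w ∣ (F n).index)
    (fun n hn => (h1 n).resolve_left hn.2)
  have h9 : 0 < Nat.card N := Nat.card_pos
  omega

/-- A non-abelian simple normal subgroup is a direct factor with central complement. -/
theorem factor [Finite G] (h : Hyp G) (N : Subgroup G) [hN : N.Normal] [IsSimpleGroup N]
    (hna : ¬ ∀ a b : N, a * b = b * a) : center G ⊓ N = ⊥ ∧ center G ⊔ N = ⊤ := by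
  have hZ : ∀ x ∈ N, x ∈ centralizer (N : Set G) → x = 1 := by
    intro x hx hc
    have : (⟨x, hx⟩ : N) ∈ center N := by rwa [← cent_subgroupOf, mem_subgroupOf]
    rw [center_eq_bot hna, mem_bot] at this
    exact congrArg Subtype.val this
  have hC : centralizer (N : Set G) ≤ center G := by
    intro c hc
    by_contra hcZ
    obtain ⟨t, ht, htd⟩ := Nat.exists_prime_and_dvd (fun h1 => hcZ (index_cent_eq_one_iff.1 h1))
    obtain ⟨r, s, D⟩ := exists_sim (h.of_normal N) hna
    obtain ⟨x, -, a, b, ha, hb, hab, hat, hbt, h1, h2⟩ := D.exists_two_primes t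
    have key : centralizer ({(x : G) * c} : Set G) ≤
        centralizer ({(x : G)} : Set G) ⊓ centralizer ({c} : Set G) := by
      intro g hg
      obtain ⟨n, hn, hd⟩ := exists_mul_mem_cent h N hna g
      have e1 := mem_cent.1 hg
      have e2 := hd x x.2
      have e3 := hc n hn
      have e4 : n * x * n⁻¹ * (x : G)⁻¹ = (n * g) * c * (n * g)⁻¹ * c⁻¹ := by
        have e5 := hc _ (N.mul_mem (N.mul_mem hn x.2) (N.inv_mem hn))
        have e6 := hc _ x.2
        have e7 := (centralizer (N : Set G)).mul_mem ((centralizer (N : Set G)).mul_mem hd hc)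
          ((centralizer (N : Set G)).inv_mem hd) _ x.2
        have e8 : n * x * n⁻¹ * c = x * ((n * g) * c * (n * g)⁻¹) := by
          calc n * x * n⁻¹ * c = n * (x * c) * n⁻¹ := by
                rw [mul_assoc _ n⁻¹, (show n⁻¹ * c = c * n⁻¹ from hc _ (N.inv_mem hn))]; group
            _ = n * (g * (x * c)) * g⁻¹ * n⁻¹ := by rw [e1]; group
            _ = (n * g * x) * c * (n * g)⁻¹ := by group
            _ = _ := by rw [← e2]; group
        calc n * x * n⁻¹ * (x : G)⁻¹ = (n * x * n⁻¹ * c) * (x * c)⁻¹ := by group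
          _ = (n * g) * c * (n * g)⁻¹ * x * (x * c)⁻¹ := by rw [e8, e7]
          _ = _ := by rw [e6]; group
      have e9 : n * x * n⁻¹ * (x : G)⁻¹ = 1 := hZ _
        (N.mul_mem (hN.conj_mem _ x.2 n) (N.inv_mem x.2)) (by
          rw [e4]
          exact mul_mem (mul_mem (mul_mem hd hc) (inv_mem hd)) (inv_mem hc))
      have e10 : n * x = x * n := by rwa [mul_inv_eq_one, mul_inv_eq_iff_eq_mul] at e9
      have e11 : g * x = x * g := by
        calc g * x = n⁻¹ * (n * g * x) := by group
          _ = n⁻¹ * (x * n) * g := by rw [← e2]; group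
          _ = x * g := by rw [← e10]; group
      refine ⟨mem_cent.2 e11, mem_cent.2 ?_⟩
      calc g * c = (x : G)⁻¹ * (x * g) * c := by group
        _ = (x : G)⁻¹ * (g * (x * c)) := by rw [← e11]; group
        _ = c * g := by rw [e1]; group
    have d1 := (index_cent_subtype_dvd_of_normal x).trans
      (index_dvd_of_le (key.trans inf_le_left))
    exact not_three index_ne_zero_of_finite (h _) ha hb ht hab hat hbt (h1.trans d1) (h2.trans d1)
      (htd.trans (index_dvd_of_le (key.trans inf_le_right)))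
  refine ⟨eq_bot_iff.2 (fun x hx => hZ x hx.2 (center_le_centralizer _ hx.1)),
    eq_top_iff.2 (fun g _ => ?_)⟩
  obtain ⟨n, hn, hd⟩ := exists_mul_mem_cent h N hna g
  rw [← inv_mul_cancel_left n g, sup_comm]
  exact mul_mem_sup (N.inv_mem hn) (hC hd)

theorem eq_commutator (S : Subgroup G) [S.Normal] [IsSimpleGroup S]
    (hna : ¬ ∀ a b : S, a * b = b * a) (h : center G ⊔ S = ⊤) : commutator G = S := by
  apply le_antisymm
  · rw [_root_.commutator_def, commutator_le]
    intro x _ y _
    obtain ⟨z, hz, a, ha, rfl⟩ := mem_sup_of_normal_right.1 (h ▸ mem_top x)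
    obtain ⟨z', hz', b, hb, rfl⟩ := mem_sup_of_normal_right.1 (h ▸ mem_top y)
    have e1 := mem_center_iff.1 hz
    have e2 := mem_center_iff.1 hz'
    have : ⁅z * a, z' * b⁆ = a * b * a⁻¹ * b⁻¹ := by
      rw [commutatorElement_def]
      calc z * a * (z' * b) * (z * a)⁻¹ * (z' * b)⁻¹
          = z * (a * (z' * b) * a⁻¹) * z⁻¹ * (z' * b)⁻¹ := by group
        _ = a * z' * (b * a⁻¹ * b⁻¹) * z'⁻¹ := by rw [← e1]; group
        _ = _ := by rw [mul_assoc a z', ← e2]; group
    rw [this]
    exact S.mul_mem (S.mul_mem (S.mul_mem ha hb) (S.inv_mem ha)) (S.inv_mem hb)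
  · have h1 : commutator S = ⊤ :=
      (inferInstance : (commutator S).Normal).eq_bot_or_eq_top.resolve_left (fun h2 => hna
        (fun a b => commutatorElement_eq_one_iff_mul_comm.1
          (mem_bot.1 (h2 ▸ commutator_mem_commutator (mem_top a) (mem_top b)))))
    have h2 : S = (commutator S).map S.subtype := by
      rw [h1, ← MonoidHom.range_eq_map, range_subtype]
    rw [h2, _root_.commutator_def, _root_.commutator_def, map_commutator]
    exact commutator_mono le_top le_top

/-- An extension of an abelian `p`-group by a non-abelian simple group with the class size condition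
is not perfect. -/
theorem commutator_ne_top [Finite G] (h : Hyp G) {p : ℕ} [hp : Fact p.Prime] (V : Subgroup G)
    [V.Normal] (hV : V ≠ ⊥) (hpV : IsPGroup p V) (hab : V ≤ centralizer (V : Set G))
    [IsSimpleGroup (G ⧸ V)] (hna : ¬ ∀ a b : G ⧸ V, a * b = b * a) : commutator G ≠ ⊤ := by
  intro hper
  have hs := QuotientGroup.mk'_surjective V
  obtain ⟨r, s, D⟩ := exists_sim (h.of_surjective _ hs) hna
  rcases (Normal.map (inferInstance : (centralizer (V : Set G)).Normal) _ hs).eq_bot_or_eq_top
    with h1 | h1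
  · rw [Subgroup.map_eq_bot_iff, QuotientGroup.ker_mk'] at h1
    obtain ⟨y, hy, a, b, ha, hb, hab, hat, hbt, h2, h3⟩ := D.exists_two_primes p
    obtain ⟨x, rfl⟩ := QuotientGroup.mk_surjective y
    have h4 : (centralizer ({x} : Set G)).relIndex V ≠ 1 := fun h5 =>
      hy ((QuotientGroup.eq_one_iff x).2 (h1 (le_cent_iff.1 (relIndex_eq_one.1 h5))))
    obtain ⟨k, hk⟩ := hpV.index ((centralizer ({x} : Set G)).subgroupOf V)
    have h5 : p ∣ (centralizer ({x} : Set G)).relIndex V := by
      rw [relIndex, hk] at h4 ⊢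
      exact dvd_pow_self p (by rintro rfl; exact h4 (pow_zero _))
    exact not_three index_ne_zero_of_finite (h x) ha hb hp.out hab hat hbt
      (h2.trans (index_cent_mk_dvd V x)) (h3.trans (index_cent_mk_dvd V x))
      (h5.trans (relIndex_dvd_index_of_normal_right _ V))
  · have h2 : centralizer (V : Set G) = ⊤ := by
      have := comap_map_eq_self (f := QuotientGroup.mk' V) (H := centralizer (V : Set G))
        (by rwa [QuotientGroup.ker_mk'])
      rw [← this, h1, comap_top]
    have hZ : V ≤ center G := centralizer_eq_top_iff_subset.1 h2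
    let P : Sylow p G := default
    have hVP : V ≤ P := hpV.le_sylow_of_normal P
    refine Trans.not_dvd_card_center_inf_commutator P
      (le_centralizer_iff_isMulCommutative.1 (fun x hx => ?_)) ?_
    · by_cases hxV : x ∈ V
      · exact center_le_centralizer _ (hZ hxV)
      have hy : (x : G ⧸ V) ≠ 1 := fun h3 => hxV ((QuotientGroup.eq_one_iff x).1 h3)
      have hyP : (x : G ⧸ V) ∈ ((P.mapSurjective hs : Sylow p (G ⧸ V)) : Subgroup (G ⧸ V)) :=
        ⟨x, hx, rfl⟩
      have hin : In r s p := by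
        obtain ⟨k, hk⟩ := exists_orderOf_eq_pow _ hyP
        refine D.only p hp.out (Dvd.dvd.trans ?_ (orderOf_dvd_natCard (x : G ⧸ V)))
        rw [hk]
        exact dvd_pow_self p (by rintro rfl; exact hy (orderOf_eq_one_iff.1 hk))
      obtain ⟨a, b, ha, hb, hab, hat, hbt, h3, h4⟩ := D.two_primes (t := p) hy
        (fun _ => ty_of_mem _ (D.ab hin _ hyP))
      have h5 : Ty p x := fun h5 => not_three index_ne_zero_of_finite (h x) ha hb hp.out hab hat hbt
        (h3.trans (index_cent_mk_dvd V x)) (h4.trans (index_cent_mk_dvd V x)) h5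
      obtain ⟨R, hR⟩ := h5.exists_sylow
      have h6 : (R : Subgroup G).map (QuotientGroup.mk' V) ≤ (P : Subgroup G).map (QuotientGroup.mk' V) :=
        le_sylow_of_le_normalizer (P.mapSurjective hs) (R.2.map _) (le_trans (by
          rw [← D.cent_eq hin (D.ab hin) _ hyP hy]
          exact (map_mono (le_cent_iff.2 hR)).trans (map_cent_le (QuotientGroup.mk' V) x))
          (centralizer_le_normalizer _))
      rw [map_le_iff_le_comap, comap_map_eq_self (by rwa [QuotientGroup.ker_mk'])] at h6
      rwa [R.3 P.2 h6]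
    · rw [hper, inf_top_eq]
      exact (hpV.card_eq_or_dvd.resolve_left (fun h3 => hV (card_eq_one.1 h3))).trans
        (card_dvd_of_le hZ)

theorem main (n : ℕ) : ∀ (G : Type u) [Group G] [Finite G], Nat.card G = n → Hyp G →
    ¬ Group.IsSolvable G → ∃ S : Subgroup G, S.Normal ∧ IsSimpleGroup S ∧
      (¬ ∀ a b : S, a * b = b * a) ∧ center G ⊓ S = ⊥ ∧ center G ⊔ S = ⊤ := by
  induction n using Nat.strong_induction_on with
  | _ n ih =>
  intro G _ _ hn h hns
  by_cases hM : ∃ M : Subgroup G, M.Normal ∧ M ≠ ⊤ ∧ ¬ Group.IsSolvable M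
  · obtain ⟨M, hMn, hM1, hM2⟩ := hM
    obtain ⟨S, hS1, hS2, hS3, -, hS4⟩ := ih _ (hn ▸ (card_le_card_group M).lt_of_ne
      (fun h1 => hM1 (eq_top_of_card_eq M h1))) M rfl (h.of_normal M) hM2
    have h1 : S.Characteristic := eq_commutator S hS3 hS4 ▸ inferInstance
    have e := S.equivMapOfInjective _ M.subtype_injective
    have h2 : IsSimpleGroup (S.map M.subtype) := e.symm.isSimpleGroup
    have h3 : ¬ ∀ a b : S.map M.subtype, a * b = b * a := fun h4 => hS3 (fun a b => e.injective (by
      rw [map_mul, map_mul, h4]))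
    exact ⟨S.map M.subtype, inferInstance, h2, h3, factor h _ h3⟩
  push Not at hM
  by_cases hG : IsSimpleGroup G
  · have hna : ¬ ∀ a b : G, a * b = b * a := fun h1 => hns (IsSimpleGroup.comm_iff_isSolvable.1 h1)
    refine ⟨⊤, inferInstance, topEquiv.isSimpleGroup, fun h1 => hna (fun a b =>
      congrArg Subtype.val (h1 ⟨a, trivial⟩ ⟨b, trivial⟩)), by rw [center_eq_bot hna, bot_inf_eq],
      sup_top_eq _⟩
  exfalso
  have hnt : Nontrivial G := by
    by_contra h1
    rw [not_nontrivial_iff_subsingleton] at h1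
    exact hns inferInstance
  obtain ⟨K, hK, hK1, hK2⟩ : ∃ K : Subgroup G, K.Normal ∧ K ≠ ⊥ ∧ K ≠ ⊤ := by
    by_contra h1
    push Not at h1
    exact hG ⟨fun K hK => or_iff_not_imp_left.2 (h1 K hK)⟩
  have := hM K hK hK2
  obtain ⟨p, V, hp, hV, hVK, hVab, -, hVp⟩ := Solv.exists_isMinNormal_elementary_le K hK1
  have := Fact.mk hp
  have := hV.normal
  have hs := QuotientGroup.mk'_surjective V
  have hQ : ¬ Group.IsSolvable (G ⧸ V) := fun h1 => by
    have : Group.IsSolvable V := isSolvable_of_le' hVK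
    exact hns (Group.isSolvable_of_ker_le_range V.subtype (QuotientGroup.mk' V) (by simp))
  have hlt : Nat.card (G ⧸ V) < n := by
    rw [← hn, card_eq_card_quotient_mul_card_subgroup V]
    exact lt_mul_of_one_lt_right Nat.card_pos ((one_lt_card_iff_ne_bot V).2 hV.ne_bot)
  obtain ⟨S, hS1, hS2, hS3, -, -⟩ := ih _ hlt (G ⧸ V) rfl (h.of_surjective _ hs) hQ
  have hS : S = ⊤ := by
    by_contra h1
    have h2 := hM (S.comap (QuotientGroup.mk' V)) inferInstance (fun h2 => h1 (by
      rw [← map_comap_eq_self_of_surjective hs S, h2, map_top_of_surjective _ hs]))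
    have h3 := isSolvable_map' (QuotientGroup.mk' V) (S.comap (QuotientGroup.mk' V))
    rw [map_comap_eq_self_of_surjective hs S] at h3
    exact hS3 (IsSimpleGroup.comm_iff_isSolvable.2 h3)
  subst hS
  have h1 : IsSimpleGroup (G ⧸ V) := topEquiv.symm.isSimpleGroup
  have h2 := hM _ inferInstance (commutator_ne_top h V hV.ne_bot hVp (le_centralizer V)
    (fun h2 => hS3 (fun a b => Subtype.ext (h2 a b))))
  exact hns (Group.isSolvable_of_ker_le_range (commutator G).subtype Abelianization.of (by simp))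

end Cfsg.Lib.Cls2
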