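import Cfsg.Agent.Cls2.Types
import Cfsg.Agent.Known.SylowCount
import Cfsg.Agent.Class.PGL2Sub
import Cfsg.Agent.S2202

/-!
# Simple groups whose class sizes have at most two prime divisors have order 60 or 504
-/

set_option autoImplicit false

namespace Cfsg.Lib.Cls2

open Cfsg Subgroup Cfsg.Lib.Solv.Count Cfsg.Lib.Solv.ClassSize
open scoped Pointwise

variable {G : Type*} [Group G]

theorem three_pow_mod (a : ℕ) : 3 ^ a % 80 = 3 ^ (a % 4) := by
  conv_lhs => rw [← Nat.div_add_mod a 4, pow_add, pow_mul, Nat.mul_mod, Nat.pow_mod]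
  have : a % 4 < 4 := Nat.mod_lt _ (by norm_num)
  generalize a % 4 = r at *
  interval_cases r <;> simp

theorem two_pow_add_one {a b : ℕ} (h : 2 ^ b + 1 = 3 ^ a) : b = 1 ∨ b = 3 := by
  have h1 := three_pow_mod a
  have h2 : a % 4 < 4 := Nat.mod_lt _ (by norm_num)
  by_cases hb : 4 ≤ b
  · have h3 : 16 ∣ 2 ^ b := pow_dvd_pow 2 hb
    have h4 : ¬ 5 ∣ 2 ^ b := fun h => absurd (Nat.prime_five.dvd_of_dvd_pow h) (by norm_num)
    generalize a % 4 = r at *
    interval_cases r <;> omega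
  · generalize a % 4 = r at *
    interval_cases b <;> interval_cases r <;> omega

theorem three_pow_add_one {a b : ℕ} (h : 3 ^ a + 1 = 2 ^ b) : b ≤ 2 := by
  have h1 := three_pow_mod a
  have h2 : a % 4 < 4 := Nat.mod_lt _ (by norm_num)
  by_contra hb
  have h3 : 8 ∣ 2 ^ b := pow_dvd_pow 2 (not_le.1 hb)
  generalize a % 4 = r at *
  interval_cases r <;> omega

theorem eq_four_or_eight {n m t : ℕ} (hn : 1 ≤ n) (hm : 2 ^ n = m + 1) (ht : t.Prime) (ht2 : t ≠ 2)
    (ht3 : t ≠ 3) (htd : t ∣ (m + 1) * m * (m + 2))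
    (h : ∀ l : ℕ, l.Prime → l ∣ (m + 1) * m * (m + 2) → l = 2 ∨ l = 3 ∨ l = t) :
    m = 3 ∨ m = 7 := by
  have h2 : 2 ∣ m + 1 := hm ▸ dvd_pow_self 2 (by omega)
  have h3 : ¬ 3 ∣ m + 1 := fun h => absurd (Nat.prime_three.dvd_of_dvd_pow (hm ▸ h)) (by norm_num)
  have hm1 : m ≠ 1 := by
    rintro rfl
    have := Nat.le_of_dvd (by norm_num) htd
    have := ht.two_le
    interval_cases t <;> simp_all (config := {decide := true})
  have hnot : ¬ (t ∣ m ∧ t ∣ m + 2) := fun ⟨a, b⟩ =>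
    ht2 ((Nat.prime_dvd_prime_iff_eq ht Nat.prime_two).1 ((Nat.dvd_add_right a).1 b))
  have ha : ∀ l : ℕ, l.Prime → l ∣ m → l = 3 ∨ l = t := fun l hl hd =>
    (h l hl ((hd.mul_left _).mul_right _)).resolve_left (by rintro rfl; omega)
  have hb : ∀ l : ℕ, l.Prime → l ∣ m + 2 → l = 3 ∨ l = t := fun l hl hd =>
    (h l hl (hd.mul_left _)).resolve_left (by rintro rfl; omega)
  by_cases h4 : t ∣ m
  · have h5 := Nat.eq_prime_pow_of_unique_prime_dvd (n := m + 2) (p := 3) (by omega)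
      (fun {l} hl hd => (hb l hl hd).resolve_right (by rintro rfl; exact hnot ⟨h4, hd⟩))
    rcases two_pow_add_one (b := n) (by rw [← h5]; omega) with rfl | rfl <;> omega
  · have h5 := Nat.eq_prime_pow_of_unique_prime_dvd (n := m) (p := 3) (by omega)
      (fun {l} hl hd => (ha l hl hd).resolve_right (by rintro rfl; exact h4 hd))
    have h6 := three_pow_add_one (b := n) (by rw [← h5]; omega)
    interval_cases n <;> omega

theorem center_eq_bot [IsSimpleGroup G] (hna : ¬ ∀ a b : G, a * b = b * a) : center G = ⊥ :=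
  (inferInstance : (center G).Normal).eq_bot_or_eq_top.resolve_right (fun h =>
    hna (fun a b => mem_center_iff.1 (h ▸ mem_top b) a))

/-- An automorphism fixing pointwise an abelian subgroup that is regular on the Sylow
`p`-subgroups is inner. -/
theorem inner_of_fix [Finite G] {p : ℕ} [Fact p.Prime]
    (hker : ∀ g : G, (∀ T : Sylow p G, g • T = T) → g = 1) (U : Subgroup G)
    (hU : U ≤ centralizer (U : Set G)) (hc : Nat.card U = Nat.card (Sylow p G))
    (hN : ∀ T : Sylow p G, U ⊓ normalizer ((T : Subgroup G) : Set G) = ⊥) (α : MulAut G)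
    (hα : ∀ u ∈ U, α u = u) : ∃ n : G, ∀ x, α x = n * x * n⁻¹ := by
  let T : Sylow p G := default
  have hcomp : ∀ (g : G) (Q : Sylow p G), α • (g • Q) = α g • (α • Q) := by
    intro g Q
    rw [Sylow.smul_def, Sylow.smul_def, ← mul_smul, ← mul_smul]
    congr 1
    ext x
    simp
  have hinj : Function.Injective (fun u : U => (u : G) • T) := by
    intro a b hab
    have h1 : ((b : G)⁻¹ * a) • T = T := by
      rw [mul_smul, inv_smul_eq_iff]; exact hab
    have h2 : (b : G)⁻¹ * a ∈ U ⊓ normalizer ((T : Subgroup G) : Set G) :=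
      ⟨U.mul_mem (U.inv_mem b.2) a.2, Sylow.smul_eq_iff_mem_normalizer.1 h1⟩
    rw [hN, mem_bot, inv_mul_eq_one] at h2
    exact Subtype.ext h2.symm
  have hsurj := ((Nat.bijective_iff_injective_and_card _).2 ⟨hinj, hc⟩).2
  obtain ⟨u₀, hu₀⟩ := hsurj (α • T)
  have hall : ∀ Q : Sylow p G, α • Q = (u₀ : G) • Q := by
    intro Q
    obtain ⟨u, rfl⟩ := hsurj Q
    simp only at hu₀ ⊢
    rw [hcomp, hα u u.2, ← hu₀, ← mul_smul, ← mul_smul, hU u₀.2 u u.2]
  refine ⟨u₀, fun x => ?_⟩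
  have h1 := hker (((u₀ : G) * x * (u₀ : G)⁻¹)⁻¹ * α x) (fun Q => by
    obtain ⟨Q', rfl⟩ : ∃ Q', Q = α • Q' := ⟨α⁻¹ • Q, (smul_inv_smul _ _).symm⟩
    rw [mul_smul, inv_smul_eq_iff, ← hcomp, hall, hall, ← mul_smul, ← mul_smul,
      inv_mul_cancel_right])
  exact (inv_mul_eq_one.1 h1).symm

namespace Sim

variable {r s : ℕ} (D : Sim G r s) [Finite G] [IsSimpleGroup G]
include D

theorem ab {p : ℕ} (hp : In r s p) : Ab p G := by
  obtain ⟨h1, h2, h3⟩ := D.ab_all
  rcases hp with rfl | rfl | rfl <;> assumption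

theorem cent_two (T : Sylow 2 G) {z : G} (hz : z ∈ (T : Subgroup G)) (hz1 : z ≠ 1) :
    centralizer ({z} : Set G) = T :=
  D.cent_two_eq (D.ab in_left) (D.ab in_right) T hz hz1 (D.ab in_two T hz)

theorem cent_sylow_two (T : Sylow 2 G) : centralizer ((T : Subgroup G) : Set G) = T := by
  obtain ⟨⟨z, hz⟩, hz1⟩ := (ne_bot_iff_exists_ne_one).1 (T.ne_bot_of_dvd_card D.d2)
  have hz2 : z ≠ 1 := fun h => hz1 (Subtype.ext h)
  rw [← D.cent_eq in_two (D.ab in_two) T hz hz2, D.cent_two T hz hz2]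

theorem not_normal (T : Sylow 2 G) : ¬ (T : Subgroup G).Normal := fun h => by
  rcases h.eq_bot_or_eq_top with h1 | h1
  · exact T.ne_bot_of_dvd_card D.d2 h1
  · exact D.na (fun a b => D.ab in_two T (h1 ▸ mem_top b) a (h1 ▸ mem_top a))

theorem card_eq : Nat.card G = 60 ∨ Nat.card G = 504 := by
  let T : Sylow 2 G := default
  rcases Cfsg.Agent.S2202.result (G := G) (even_iff_two_dvd.2 D.d2) (fun t ht => by
    obtain ⟨Q, hQ⟩ := exists_sylow_mem_of_pow_eq_one (p := 2) (k := 1) (x := t)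
      (by rw [pow_one, ← ht, pow_orderOf_eq_one])
    rw [D.cent_two Q hQ (by rintro rfl; simp at ht)]
    exact le_centralizer_iff_isMulCommutative.1 (D.ab in_two Q)) with h | h | h
  · have h1 := (h T).normalizer_le_centralizer ((Nat.minFac_eq_two_iff _).2 D.d2)
    have h2 : ff (T : Subgroup G) = 1 := relIndex_eq_one.2 h1
    have := D.three_le_ff T
    omega
  · exact absurd (h T) (D.not_normal T)
  obtain ⟨F, _, _, A, _, _, hF, -, ⟨e⟩⟩ := h
  have hA : Nat.card A = 1 := by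
    rw [Nat.card_eq_one_iff_unique]
    refine ⟨⟨fun a b => ?_⟩, inferInstance⟩
    have key : ∀ a : A, a = 1 := fun a => by
      have h1 : e.symm (1, a) ∈ center G := mem_center_iff.2 (fun g => e.injective (by
        simp only [map_mul, MulEquiv.apply_symm_apply]
        exact Prod.ext (by simp) (mul_comm _ _)))
      rw [center_eq_bot D.na, mem_bot, MulEquiv.map_eq_one_iff] at h1
      exact congrArg Prod.snd h1
    rw [key a, key b]
  have h1 : Nat.card G = Nat.card F * (Nat.card F - 1) * (Nat.card F + 1) := by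
    rw [Nat.card_congr e.toEquiv, Nat.card_prod, hA, mul_one, Class.card_SL2]
  obtain ⟨n, -, hn⟩ := FiniteField.card F 2
  rw [← Nat.card_eq_fintype_card] at hn
  obtain ⟨m, hm⟩ : ∃ m, 2 ^ (n : ℕ) = m + 1 := ⟨2 ^ (n : ℕ) - 1, by
    have := Nat.two_pow_pos (n : ℕ); omega⟩
  rw [hn, hm, Nat.add_sub_cancel] at h1
  have h3 : 3 ∣ Nat.card G := by
    rw [h1]
    have : m % 3 = 0 ∨ (m + 1) % 3 = 0 ∨ (m + 1 + 1) % 3 = 0 := by omega
    rcases this with h | h | h
    · exact ((Nat.dvd_of_mod_eq_zero h).mul_left _).mul_right _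
    · exact ((Nat.dvd_of_mod_eq_zero h).mul_right _).mul_right _
    · exact (Nat.dvd_of_mod_eq_zero h).mul_left _
  have key : ∀ {t : ℕ}, Sim G 3 t → m = 3 ∨ m = 7 := fun {t} D =>
    eq_four_or_eight n.2 hm D.ps D.s2 D.rs.symm (h1 ▸ D.ds) (fun l hl hd => D.only l hl (h1 ▸ hd))
  have h4 : m = 3 ∨ m = 7 := by
    rcases D.only 3 Nat.prime_three h3 with h | rfl | rfl
    · exact absurd h (by norm_num)
    · exact key D
    · exact key D.symm
  rcases h4 with rfl | rfl
  · exact Or.inl h1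
  · exact Or.inr h1

theorem ff_dvd (T : Sylow 2 G) : ff (T : Subgroup G) ∣ Nat.card (T : Subgroup G) - 1 := by
  set N := normalizer ((T : Subgroup G) : Set G) with hN
  let _ : MulAction N G := MulAction.compHom G (MulAut.conj.comp N.subtype)
  have hs : ∀ (g : N) (x : G), g • x = g * x * (g : G)⁻¹ := fun _ _ => rfl
  have h1 := dvd_cnt_of_dvd_index_stabilizer (A := N) (fun x : G => x ∈ (T : Subgroup G) ∧ ¬ x = 1)
    (fun g x hx => ⟨by rw [hs]; exact (mem_normalizer_iff.1 g.2 x).1 hx.1, by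
      rw [hs]; simpa using hx.2⟩) (n := ff (T : Subgroup G)) (fun x hx => by
      have : MulAction.stabilizer N x = (centralizer ((T : Subgroup G) : Set G)).subgroupOf N := by
        ext g
        rw [MulAction.mem_stabilizer_iff, hs, mem_subgroupOf, D.cent_sylow_two,
          ← D.cent_two T hx.1 hx.2, mem_cent_iff_conj]
      rw [this]
      exact dvd_rfl)
  have h2 := cnt_add (fun x : G => x ∈ (T : Subgroup G)) (fun x => x = 1)
  rw [cnt_eq_one (P := fun x : G => x ∈ (T : Subgroup G) ∧ x = 1) (a := (1 : G)) ⟨one_mem _, rfl⟩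
    (fun x hx => hx.2)] at h2
  have h3 : Nat.card (T : Subgroup G) = cnt (fun x : G => x ∈ (T : Subgroup G)) := rfl
  rwa [h3, h2, Nat.add_sub_cancel_left]

theorem eq_one_of_smul {g : G} (h : ∀ T : Sylow 2 G, g • T = T) : g = 1 := by
  have hg : g ∈ (MulAction.toPermHom G (Sylow 2 G)).ker := by
    rw [MonoidHom.mem_ker]; ext T : 1; exact h T
  rcases (inferInstance : (MulAction.toPermHom G (Sylow 2 G)).ker.Normal).eq_bot_or_eq_top
    with h1 | h1
  · rwa [h1, mem_bot] at hg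
  · let T : Sylow 2 G := default
    refine absurd (normalizer_eq_top_iff.1 (top_le_iff.1 (fun x _ => ?_))) (D.not_normal T)
    have h2 : x ∈ (MulAction.toPermHom G (Sylow 2 G)).ker := h1 ▸ mem_top x
    rw [MonoidHom.mem_ker] at h2
    exact Sylow.smul_eq_iff_mem_normalizer.1 (DFunLike.congr_fun h2 T)

/-- For a suitable naming of the odd primes, automorphisms fixing a Sylow `u`-subgroup pointwise
are inner. -/
theorem exists_inner : ∃ u w, Sim G u w ∧ ∀ (U : Sylow u G) (α : MulAut G),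
    (∀ x ∈ (U : Subgroup G), α x = x) → ∃ n : G, ∀ x, α x = n * x * n⁻¹ := by
  have key : ∀ (u w a k f : ℕ) (D : Sim G u w), Nat.card G = 2 ^ a * (f * u ^ k) → f + 1 = 2 ^ a →
      f.Prime → ¬ u ∣ 2 ^ a * f → ¬ 2 ∣ f * u ^ k → ∀ (U : Sylow u G) (α : MulAut G),
      (∀ x ∈ (U : Subgroup G), α x = x) → ∃ n : G, ∀ x, α x = n * x * n⁻¹ := by
    intro u w a k f D hG hf hfp hu h2 U α hα
    have := Fact.mk D.pr
    have hT : ∀ T : Sylow 2 G, Nat.card (T : Subgroup G) = 2 ^ a := fun T =>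
      Known.SC.sylow_card_eq_pow T hG h2
    have hU : Nat.card (U : Subgroup G) = u ^ k :=
      Known.SC.sylow_card_eq_pow U (m := 2 ^ a * f) (by rw [hG]; ring) hu
    have hff : ∀ T : Sylow 2 G, ff (T : Subgroup G) = f := fun T => by
      have h1 := D.ff_dvd T
      rw [hT, ← hf, Nat.add_sub_cancel] at h1
      have := D.three_le_ff T
      rcases (Nat.dvd_prime hfp).1 h1 with h | h
      · omega
      · exact h
    have hn : Nat.card (Sylow 2 G) = u ^ k := by
      have h1 := card_eq_ff (default : Sylow 2 G)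
      rw [D.cent_sylow_two, hT, hff, hG] at h1
      refine Nat.eq_of_mul_eq_mul_right (Nat.mul_pos (Nat.two_pow_pos a) hfp.pos) ?_
      rw [h1]; ring
    refine inner_of_fix (p := 2) (fun g => D.eq_one_of_smul) U (D.ab in_left U) (hU.trans hn.symm)
      (fun T => ?_) α hα
    have h1 := Known.SC.card_normalizer_mul_card_sylow T
    rw [hn, hG, ← mul_assoc] at h1
    have h3 := Nat.eq_of_mul_eq_mul_right (pow_pos D.pr.pos k) h1
    refine disjoint_iff.1 (disjoint_of_coprime_natCard ?_)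
    rw [hU, h3]
    exact ((Nat.Prime.coprime_iff_not_dvd D.pr).2 hu).pow_left _
  have pd : ∀ {q a b : ℕ}, q.Prime → b.Prime → q ∣ b ^ a → q = b := fun hq hb h =>
    (Nat.prime_dvd_prime_iff_eq hq hb).1 (hq.dvd_of_dvd_pow h)
  rcases D.card_eq with h | h
  · have D' : Sim G 5 3 := ⟨D.hyp, D.na, by norm_num, by norm_num, by norm_num, by norm_num,
      by norm_num, by simp [h], by simp [h], by simp [h], fun q hq hd => by
        rw [h, show 60 = 2 ^ 2 * (5 ^ 1 * 3 ^ 1) by norm_num, hq.dvd_mul, hq.dvd_mul] at hd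
        exact hd.imp (pd hq (by norm_num)) (Or.imp (pd hq (by norm_num)) (pd hq (by norm_num)))⟩
    exact ⟨5, 3, D', key 5 3 2 1 3 D' (by simp [h]) (by norm_num) (by norm_num) (by norm_num)
      (by norm_num)⟩
  · have D' : Sim G 3 7 := ⟨D.hyp, D.na, by norm_num, by norm_num, by norm_num, by norm_num,
      by norm_num, by simp [h], by simp [h], by simp [h], fun q hq hd => by
        rw [h, show 504 = 2 ^ 3 * (3 ^ 2 * 7 ^ 1) by norm_num, hq.dvd_mul, hq.dvd_mul] at hd
        exact hd.imp (pd hq (by norm_num)) (Or.imp (pd hq (by norm_num)) (pd hq (by norm_num)))⟩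
    exact ⟨3, 7, D', key 3 7 3 2 7 D' (by simp [h]) (by norm_num) (by norm_num) (by norm_num)
      (by norm_num)⟩

/-- An element of type `t` has class size divisible by two primes different from `t`. -/
theorem two_primes {t : ℕ} {x : G} (hx : x ≠ 1) (h : In r s t → Ty t x) :
    ∃ a b : ℕ, a.Prime ∧ b.Prime ∧ a ≠ b ∧ a ≠ t ∧ b ≠ t ∧
      a ∣ (centralizer ({x} : Set G)).index ∧ b ∣ (centralizer ({x} : Set G)).index := by
  obtain ⟨p, hp, hty, hpt⟩ : ∃ p, In r s p ∧ Ty p x ∧ (In r s t → p = t) := by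
    by_cases ht : In r s t
    · exact ⟨t, ht, h ht, fun _ => rfl⟩
    · obtain ⟨p, hp, hty⟩ := D.exists_ty x
      exact ⟨p, hp, hty, fun h => absurd h ht⟩
  have key : ∀ q, In r s q → q ≠ p → q.Prime ∧ q ≠ t ∧ q ∣ (centralizer ({x} : Set G)).index :=
    fun q hq hqp => ⟨D.prime hq, by rintro rfl; exact hqp (hpt hq).symm, by
      by_contra h1; exact hqp (D.uniq hq hp hx h1 hty)⟩
  have fin : ∀ a b, In r s a → In r s b → a ≠ b → a ≠ p → b ≠ p →
      ∃ a b : ℕ, a.Prime ∧ b.Prime ∧ a ≠ b ∧ a ≠ t ∧ b ≠ t ∧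
      a ∣ (centralizer ({x} : Set G)).index ∧ b ∣ (centralizer ({x} : Set G)).index :=
    fun a b ha hb hab hap hbp => ⟨a, b, (key a ha hap).1, (key b hb hbp).1, hab, (key a ha hap).2.1,
      (key b hb hbp).2.1, (key a ha hap).2.2, (key b hb hbp).2.2⟩
  rcases hp with rfl | rfl | rfl
  · exact fin r s in_left in_right D.rs D.r2 D.s2
  · exact fin 2 s in_two in_right D.s2.symm D.r2.symm D.rs.symm
  · exact fin 2 r in_two in_left D.r2.symm D.s2.symm D.rs

theorem exists_two_primes (t : ℕ) : ∃ x : G, x ≠ 1 ∧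
    ∃ a b : ℕ, a.Prime ∧ b.Prime ∧ a ≠ b ∧ a ≠ t ∧ b ≠ t ∧
      a ∣ (centralizer ({x} : Set G)).index ∧ b ∣ (centralizer ({x} : Set G)).index := by
  by_cases ht : In r s t
  · have := Fact.mk (D.prime ht)
    let P : Sylow t G := default
    obtain ⟨⟨z, hz⟩, hz1⟩ := (ne_bot_iff_exists_ne_one).1 (P.ne_bot_of_dvd_card (D.dvd ht))
    have hz2 : z ≠ 1 := fun h => hz1 (Subtype.ext h)
    exact ⟨z, hz2, D.two_primes hz2 (fun _ => ty_of_mem P (D.ab ht P hz))⟩
  · obtain ⟨x, hx⟩ := exists_ne (1 : G)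
    exact ⟨x, hx, D.two_primes hx (fun h => absurd h ht)⟩

end Sim

end Cfsg.Lib.Cls2
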